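import Mathlib
import Groth.Agent.Lib.Helper7.LenPow.Red

set_option linter.style.haveILetI false
set_option linter.unusedVariables false
set_option linter.unusedSectionVars false
set_option autoImplicit false
set_option backward.isDefEq.respectTransparency.types false
set_option synthInstance.maxHeartbeats 400000
set_option maxHeartbeats 1600000

namespace Groth.Agent.Helper7.FBLen

open CategoryTheory CategoryTheory.Limits AlgebraicGeometry TopologicalSpace Opposite IsLocalRing
open TensorProduct

universe u

/-! helper7: flat local length formula, kernels of local homs of surjections, ring core for stalk lengths under base change -/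

/-! helper7: length of the local ring of a base change at a maximal point; ring-theoretic core -/

/-- the length formula for a flat local homomorphism, ring homomorphism form -/
theorem length_flat_local {A B : Type u} [CommRing A] [CommRing B] [IsLocalRing A] [IsLocalRing B]
    (φ : A →+* B) (hφ : φ.Flat) (hloc : IsLocalHom φ) :
    Module.length B B =
      Module.length A A * Module.length B (B ⧸ (maximalIdeal A).map φ) := by
  algebraize [φ]
  haveI : IsLocalHom (algebraMap A B) := hloc
  haveI : Module.Flat A B := hφ
  have h1 : Module.length B (B ⊗[A] A) =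
      Module.length A A * Module.length B (B ⧸ (maximalIdeal A).map (algebraMap A B)) :=
    IsLocalRing.length_baseChange A B A
  have h2 : Module.length B (B ⊗[A] A) = Module.length B B :=
    (TensorProduct.AlgebraTensorModule.rid A B B).length_eq
  exact h2.symm.trans h1

/-- surjectivity of the local homomorphism induced by a surjection -/
theorem surj_localRingHom {S₁ S₂ : Type u} [CommRing S₁] [CommRing S₂] (f : S₁ →+* S₂)
    (hf : Function.Surjective f) (P : Ideal S₂) [P.IsPrime] (Q : Ideal S₁) [Q.IsPrime]
    (h : Q = P.comap f) : Function.Surjective (Localization.localRingHom Q P f h) := by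
  subst h
  exact RingHom.surjective_localRingHom_of_surjective f hf P

/-- kernel of the local homomorphism induced by a surjection -/
theorem ker_localRingHom {S₁ S₂ : Type u} [CommRing S₁] [CommRing S₂] (f : S₁ →+* S₂)
    (hf : Function.Surjective f) (P : Ideal S₂) [P.IsPrime] (Q : Ideal S₁) [Q.IsPrime]
    (h : Q = P.comap f) :
    RingHom.ker (Localization.localRingHom Q P f h) =
      (RingHom.ker f).map (algebraMap S₁ (Localization.AtPrime Q)) := by
  apply le_antisymm
  · intro b hb
    obtain ⟨r, s, rfl⟩ := IsLocalization.exists_mk'_eq Q.primeCompl b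
    rw [RingHom.mem_ker, Localization.localRingHom_mk', IsLocalization.mk'_eq_zero_iff] at hb
    obtain ⟨⟨t₂, ht₂⟩, ht⟩ := hb
    obtain ⟨t₁, rfl⟩ := hf t₂
    have ht₁ : t₁ ∈ Q.primeCompl := by
      intro hmem
      rw [h] at hmem
      exact ht₂ hmem
    rw [IsLocalization.mk'_mem_map_algebraMap_iff Q.primeCompl]
    refine ⟨t₁, ht₁, ?_⟩
    rw [RingHom.mem_ker, map_mul]
    exact ht
  · rw [Ideal.map_le_iff_le_comap]
    intro r hr
    rw [RingHom.mem_ker] at hr
    rw [Ideal.mem_comap, RingHom.mem_ker, Localization.localRingHom_to_map, hr, map_zero]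

/-- at a minimal prime the maximal ideal of the localization is generated by the nilradical -/
theorem maximalIdeal_eq_map_nilradical {R : Type u} [CommRing R] (p : Ideal R) [p.IsPrime]
    (hp : p ∈ minimalPrimes R) :
    IsLocalRing.maximalIdeal (Localization.AtPrime p) =
      (nilradical R).map (algebraMap R (Localization.AtPrime p)) := by
  haveI : Ring.KrullDimLE 0 (Localization.AtPrime p) := Ring.KrullDimLE.of_isLocalization p hp _
  rw [← Ring.KrullDimLE.nilradical_eq_maximalIdeal]
  have h := IsLocalization.map_radical p.primeCompl (Localization.AtPrime p) (⊥ : Ideal R)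
  rw [Ideal.map_bot] at h
  exact h.symm

section Theta

variable (k' k'' R : Type u) [Field k'] [Field k''] [Algebra k' k''] [CommRing R] [Algebra k' R]
  (I : Ideal R)

/-- the base change of the quotient map -/
noncomputable def θ : (R ⊗[k'] k'') →+* ((R ⧸ I) ⊗[k'] k'') :=
  (Algebra.TensorProduct.map (Ideal.Quotient.mkₐ k' I) (AlgHom.id k' k'')).toRingHom

theorem θ_surjective : Function.Surjective (θ k' k'' R I) := by
  intro x
  obtain ⟨y, hy⟩ := Algebra.TensorProduct.map_surjective (f := Ideal.Quotient.mkₐ k' I)
    (g := AlgHom.id k' k'') (Ideal.Quotient.mkₐ_surjective k' I) Function.surjective_id x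
  exact ⟨y, hy⟩

theorem ker_θ : RingHom.ker (θ k' k'' R I) = I.map (algebraMap R (R ⊗[k'] k'')) := by
  have h := Algebra.TensorProduct.rTensor_ker (R := k') (S := k') (C := k'')
    (f := Ideal.Quotient.mkₐ k' I) (Ideal.Quotient.mkₐ_surjective k' I)
  have h2 : RingHom.ker (Ideal.Quotient.mkₐ k' I) = I := by
    ext r
    rw [RingHom.mem_ker]
    exact Ideal.Quotient.eq_zero_iff_mem
  rw [h2] at h
  ext x
  have h3 : x ∈ RingHom.ker (θ k' k'' R I) ↔
      x ∈ RingHom.ker (Algebra.TensorProduct.map (Ideal.Quotient.mkₐ k' I) (AlgHom.id k' k'')) :=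
    Iff.rfl
  rw [h3, h]
  exact Iff.rfl

/-- the ring-theoretic core -/
theorem ring_core (hI : I = nilradical R)
    (q₂ : Ideal ((R ⧸ I) ⊗[k'] k'')) [q₂.IsPrime]
    (q₁ : Ideal (R ⊗[k'] k'')) [q₁.IsPrime] (p : Ideal R) [p.IsPrime]
    (hq₁ : q₁ = q₂.comap (θ k' k'' R I))
    (hp : p = q₁.comap (algebraMap R (R ⊗[k'] k'')))
    (hmin : q₁ ∈ minimalPrimes (R ⊗[k'] k'')) :
    Module.length (Localization.AtPrime q₁) (Localization.AtPrime q₁) =
      Module.length (Localization.AtPrime p) (Localization.AtPrime p) *
        Module.length (Localization.AtPrime q₂) (Localization.AtPrime q₂) := by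
  haveI hflatR : Module.Flat R (R ⊗[k'] k'') := inferInstance
  -- `p` is a minimal prime
  have hpmin : p ∈ minimalPrimes R := by
    haveI hover : q₁.LiesOver p := ⟨hp⟩
    refine ⟨⟨inferInstance, bot_le⟩, ?_⟩
    rintro p' ⟨hp', -⟩ hle
    haveI := hp'
    obtain ⟨P, hPq, hPprime, hPover⟩ :=
      Ideal.exists_ideal_le_liesOver_of_le (p := p') (q := p) q₁ hle
    have hqP : q₁ ≤ P := hmin.2 ⟨hPprime, bot_le⟩ hPq
    have hPeq : P = q₁ := le_antisymm hPq hqP
    have h3 : p' = p := by
      rw [hPover.over, hPeq]
      exact hp.symm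
    rw [h3]
  -- the flat local homomorphism
  have hflat1 : (algebraMap R (R ⊗[k'] k'')).Flat := RingHom.flat_algebraMap_iff.mpr hflatR
  have hφflat := RingHom.Flat.localRingHom hflat1 q₁ p hp
  have hφloc := Localization.isLocalHom_localRingHom p q₁ (algebraMap R (R ⊗[k'] k'')) hp
  have hlen := length_flat_local _ hφflat hφloc
  -- the surjection onto the local ring of the quotient
  have hψsurj := surj_localRingHom (θ k' k'' R I) (θ_surjective k' k'' R I) q₂ q₁ hq₁
  have hψker : RingHom.ker (Localization.localRingHom q₁ q₂ (θ k' k'' R I) hq₁) =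
      (maximalIdeal (Localization.AtPrime p)).map
        (Localization.localRingHom p q₁ (algebraMap R (R ⊗[k'] k'')) hp) := by
    rw [ker_localRingHom (θ k' k'' R I) (θ_surjective k' k'' R I) q₂ q₁ hq₁, ker_θ,
      maximalIdeal_eq_map_nilradical p hpmin, ← hI, Ideal.map_map, Ideal.map_map]
    congr 1
    ext r
    exact (Localization.localRingHom_to_map p q₁ _ hp r).symm
  have e := RingHom.quotientKerEquivOfSurjective hψsurj
  have h1 := LenPow.length_eq_of_ringEquiv' e
  have h2 : Module.length (Localization.AtPrime q₁)
      (Localization.AtPrime q₁ ⧸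
        RingHom.ker (Localization.localRingHom q₁ q₂ (θ k' k'' R I) hq₁)) =
      Module.length (Localization.AtPrime q₁ ⧸
        RingHom.ker (Localization.localRingHom q₁ q₂ (θ k' k'' R I) hq₁))
        (Localization.AtPrime q₁ ⧸
          RingHom.ker (Localization.localRingHom q₁ q₂ (θ k' k'' R I) hq₁)) :=
    Module.length_eq_of_surjective Ideal.Quotient.mk_surjective
  rw [hlen, ← hψker, h2, h1]

end Theta

end Groth.Agent.Helper7.FBLen
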