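import Mathlib
import Groth.Agent.Lib.Helper7.LenPow.Red
import Groth.Agent.Lib.Helper7.FBLen.Ring
import Groth.Agent.Lib.Helper3.GeomReducedProd

set_option linter.style.haveILetI false
set_option linter.unusedVariables false
set_option linter.unusedSectionVars false
set_option autoImplicit false
set_option backward.isDefEq.respectTransparency.types false
set_option synthInstance.maxHeartbeats 400000
set_option maxHeartbeats 1600000

namespace Groth.Agent.Helper7.FBLen

open CategoryTheory CategoryTheory.Limits AlgebraicGeometry TopologicalSpace Opposite IsLocalRing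
open TensorProduct

universe u

/-! helper7: stalk lengths of field base changes at maximal points (charts, affine case, geometrically reduced case) -/

/-- lengths of stalks are invariant under open immersions -/
theorem length_stalk_of_isOpenImmersion {W' W : Scheme.{u}} (h : W' ⟶ W) [IsOpenImmersion h]
    (w' : W') (w : W) (hw : h w' = w) :
    Module.length (W.presheaf.stalk w) (W.presheaf.stalk w) =
      Module.length (W'.presheaf.stalk w') (W'.presheaf.stalk w') := by
  subst hw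
  exact LenPow.length_eq_of_ringEquiv' (asIso (h.stalkMap w')).commRingCatIsoToRingEquiv

/-- the stalk of an affine scheme -/
theorem length_stalk_Spec (S : Type u) [CommRing S] (x : PrimeSpectrum S) :
    Module.length ((Spec (CommRingCat.of S)).presheaf.stalk x)
        ((Spec (CommRingCat.of S)).presheaf.stalk x) =
      Module.length (Localization.AtPrime x.asIdeal) (Localization.AtPrime x.asIdeal) :=
  LenPow.length_eq_of_ringEquiv' (Spec.stalkIso (CommRingCat.of S) x).commRingCatIsoToRingEquiv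

/-- the local ring of a reduced scheme at a maximal point has length one -/
theorem length_stalk_eq_one {W : Scheme.{u}} [IsReduced W] (w : W)
    (hw : ∀ z : W, z ⤳ w → z = w) :
    Module.length (W.presheaf.stalk w) (W.presheaf.stalk w) = 1 := by
  have hmaxw : IsMax w := by
    intro b hb
    have hb' : b ⤳ w := hb
    rw [hw b hb']
  haveI : Ring.KrullDimLE 0 (W.presheaf.stalk w) :=
    AlgebraicGeometry.krullDimLE_of_coheight_le (by rw [Order.coheight_eq_zero.mpr hmaxw]; rfl)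
  have hF : IsField (W.presheaf.stalk w) := Ring.KrullDimLE.isField_of_isReduced
  letI := hF.toField
  rw [Module.length_eq_one_iff]
  infer_instance

/-- the reduced induced subscheme is reduced -/
theorem isReduced_nilradical_subscheme (Y : Scheme.{u}) : IsReduced Y.nilradical.subscheme := by
  refine @IsReduced.of_openCover _ Y.nilradical.subschemeCover.openCover ?_
  intro U
  show IsReduced (Spec (CommRingCat.of (Γ(Y, U.1) ⧸ Y.nilradical.ideal U)))
  haveI : _root_.IsReduced (Γ(Y, U.1) ⧸ Y.nilradical.ideal U) := by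
    rw [← Ideal.isRadical_iff_quotient_reduced]
    show ((Scheme.IdealSheafData.radical ⊥).ideal U).IsRadical
    rw [Scheme.IdealSheafData.radical_ideal]
    exact Ideal.radical_isRadical _
  infer_instance

section Sch

variable {k' k'' : Type u} [Field k'] [Field k''] [Algebra k' k'']

local notation "𝕋" => Spec.map (CommRingCat.ofHom (algebraMap k' k''))

/-- the affine case -/
theorem spec_level {R : Type u} [CommRing R] [Algebra k' R] (I : Ideal R) (hI : I = nilradical R)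
    (x₁ : ↥(pullback (Spec.map (CommRingCat.ofHom (algebraMap k' R))) 𝕋))
    (z₁ : ↥(pullback (Spec.map (CommRingCat.ofHom (algebraMap k' (R ⧸ I)))) 𝕋))
    (j₁ : pullback (Spec.map (CommRingCat.ofHom (algebraMap k' (R ⧸ I)))) 𝕋 ⟶
      pullback (Spec.map (CommRingCat.ofHom (algebraMap k' R))) 𝕋)
    (hj1 : j₁ ≫ pullback.fst _ _ =
      pullback.fst _ _ ≫ Spec.map (CommRingCat.ofHom (Ideal.Quotient.mk I)))
    (hj2 : j₁ ≫ pullback.snd _ _ = pullback.snd _ _)
    (hmax : ∀ z, z ⤳ x₁ → z = x₁) (hz : j₁ z₁ = x₁) :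
    Module.length
        ((pullback (Spec.map (CommRingCat.ofHom (algebraMap k' R))) 𝕋).presheaf.stalk x₁)
        ((pullback (Spec.map (CommRingCat.ofHom (algebraMap k' R))) 𝕋).presheaf.stalk x₁) =
      Module.length
          ((Spec (CommRingCat.of R)).presheaf.stalk
            (pullback.fst (Spec.map (CommRingCat.ofHom (algebraMap k' R))) 𝕋 x₁))
          ((Spec (CommRingCat.of R)).presheaf.stalk
            (pullback.fst (Spec.map (CommRingCat.ofHom (algebraMap k' R))) 𝕋 x₁)) *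
        Module.length
          ((pullback (Spec.map (CommRingCat.ofHom (algebraMap k' (R ⧸ I)))) 𝕋).presheaf.stalk z₁)
          ((pullback (Spec.map (CommRingCat.ofHom (algebraMap k' (R ⧸ I)))) 𝕋).presheaf.stalk
            z₁) := by
  have hθ : (pullbackSpecIso k' (R ⧸ I) k'').inv ≫ j₁ =
      Spec.map (CommRingCat.ofHom (θ k' k'' R I)) ≫ (pullbackSpecIso k' R k'').inv := by
    apply pullback.hom_ext
    · rw [Category.assoc, hj1, pullbackSpecIso_inv_fst_assoc, Category.assoc,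
        pullbackSpecIso_inv_fst, ← Spec.map_comp, ← Spec.map_comp]
      refine congrArg Spec.map ?_
      refine CommRingCat.hom_ext (RingHom.ext fun r => ?_)
      rfl
    · rw [Category.assoc, hj2, pullbackSpecIso_inv_snd, Category.assoc,
        pullbackSpecIso_inv_snd, ← Spec.map_comp]
      refine congrArg Spec.map ?_
      refine CommRingCat.hom_ext (RingHom.ext fun r => ?_)
      rfl
  -- the points of the affine models
  obtain ⟨X₁, hX₁⟩ : ∃ X₁ : PrimeSpectrum (R ⊗[k'] k''),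
      X₁ = (pullbackSpecIso k' R k'').hom x₁ := ⟨_, rfl⟩
  obtain ⟨Z₁, hZ₁⟩ : ∃ Z₁ : PrimeSpectrum ((R ⧸ I) ⊗[k'] k''),
      Z₁ = (pullbackSpecIso k' (R ⧸ I) k'').hom z₁ := ⟨_, rfl⟩
  have hXZ : (Spec.map (CommRingCat.ofHom (θ k' k'' R I))) Z₁ = X₁ := by
    have h1 : ((pullbackSpecIso k' (R ⧸ I) k'').inv ≫ j₁) Z₁ =
        (Spec.map (CommRingCat.ofHom (θ k' k'' R I)) ≫ (pullbackSpecIso k' R k'').inv) Z₁ := by
      rw [hθ]
    rw [Scheme.Hom.comp_apply, Scheme.Hom.comp_apply, hZ₁, Scheme.hom_inv_apply, hz] at h1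
    rw [hX₁, h1, Scheme.inv_hom_apply, hZ₁]
  have hpX : pullback.fst (Spec.map (CommRingCat.ofHom (algebraMap k' R))) 𝕋 x₁ =
      Spec.map (CommRingCat.ofHom (algebraMap R (R ⊗[k'] k''))) X₁ := by
    rw [hX₁, ← Scheme.Hom.comp_apply, pullbackSpecIso_hom_fst']
  have hmin : X₁.asIdeal ∈ minimalPrimes (R ⊗[k'] k'') := by
    refine ⟨⟨X₁.isPrime, bot_le⟩, ?_⟩
    rintro q' ⟨hq', -⟩ hle
    obtain ⟨X', hX'⟩ : ∃ X' : PrimeSpectrum (R ⊗[k'] k''), X' = ⟨q', hq'⟩ := ⟨_, rfl⟩
    have hsp : X' ⤳ X₁ := by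
      rw [← PrimeSpectrum.le_iff_specializes, hX']
      exact hle
    have hsp' : (pullbackSpecIso k' R k'').inv X' ⤳ (pullbackSpecIso k' R k'').inv X₁ :=
      hsp.map (pullbackSpecIso k' R k'').inv.continuous
    have hx : (pullbackSpecIso k' R k'').inv X₁ = x₁ := by rw [hX₁, Scheme.hom_inv_apply]
    rw [hx] at hsp'
    have h2 := hmax _ hsp'
    have h3 : X' = X₁ := by
      rw [hX₁, ← h2, Scheme.inv_hom_apply]
    rw [← h3, hX']
  have hq₁ : X₁.asIdeal = Z₁.asIdeal.comap (θ k' k'' R I) := by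
    rw [← hXZ]
    rfl
  have hp : (pullback.fst (Spec.map (CommRingCat.ofHom (algebraMap k' R))) 𝕋 x₁ :
      PrimeSpectrum R).asIdeal = X₁.asIdeal.comap (algebraMap R (R ⊗[k'] k'')) := by
    rw [hpX]
    rfl
  have key := ring_core k' k'' R I hI Z₁.asIdeal X₁.asIdeal _ hq₁ hp hmin
  have a1 := (length_stalk_of_isOpenImmersion (pullbackSpecIso k' R k'').hom x₁ X₁ hX₁.symm).symm.trans
    (length_stalk_Spec (R ⊗[k'] k'') X₁)
  have a2 := (length_stalk_of_isOpenImmersion (pullbackSpecIso k' (R ⧸ I) k'').hom z₁ Z₁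
    hZ₁.symm).symm.trans (length_stalk_Spec ((R ⧸ I) ⊗[k'] k'') Z₁)
  have a3 := length_stalk_Spec R
    (pullback.fst (Spec.map (CommRingCat.ofHom (algebraMap k' R))) 𝕋 x₁)
  rw [a1, a2, a3]
  exact key

/-- the case of an affine chart -/
theorem chart_level {Y Z' : Scheme.{u}} (g : Y ⟶ Spec (CommRingCat.of k')) (ι : Z' ⟶ Y)
    (R : Type u) [CommRing R] [Algebra k' R] (I : Ideal R) (hI : I = nilradical R)
    (fs : Spec (CommRingCat.of R) ⟶ Y) (hfsO : IsOpenImmersion fs)
    (c : Spec (CommRingCat.of (R ⧸ I)) ⟶ Z') (hcO : IsOpenImmersion c)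
    (hfs : fs ≫ g = Spec.map (CommRingCat.ofHom (algebraMap k' R)))
    (hc : c ≫ ι = Spec.map (CommRingCat.ofHom (Ideal.Quotient.mk I)) ≫ fs)
    (j : pullback (ι ≫ g) 𝕋 ⟶ pullback g 𝕋)
    (hj1 : j ≫ pullback.fst g 𝕋 = pullback.fst (ι ≫ g) 𝕋 ≫ ι)
    (hj2 : j ≫ pullback.snd g 𝕋 = pullback.snd (ι ≫ g) 𝕋)
    (x'' : ↥(pullback g 𝕋)) (hx'' : ∀ z, z ⤳ x'' → z = x'')
    (z'' : ↥(pullback (ι ≫ g) 𝕋)) (hz'' : j z'' = x'')
    (hxU : pullback.fst g 𝕋 x'' ∈ Set.range fs)
    (hzU : pullback.fst (ι ≫ g) 𝕋 z'' ∈ Set.range c) :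
    Module.length ((pullback g 𝕋).presheaf.stalk x'') ((pullback g 𝕋).presheaf.stalk x'') =
      Module.length (Y.presheaf.stalk (pullback.fst g 𝕋 x''))
          (Y.presheaf.stalk (pullback.fst g 𝕋 x'')) *
        Module.length ((pullback (ι ≫ g) 𝕋).presheaf.stalk z'')
          ((pullback (ι ≫ g) 𝕋).presheaf.stalk z'') := by
  haveI := hfsO
  haveI := hcO
  have hcg : c ≫ ι ≫ g = Spec.map (CommRingCat.ofHom (algebraMap k' (R ⧸ I))) := by
    rw [← Category.assoc, hc, Category.assoc, hfs, ← Spec.map_comp]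
    rfl
  -- the chart of `X''`
  obtain ⟨a, ha1, ha2, haO, haR⟩ : ∃ a : pullback (Spec.map (CommRingCat.ofHom (algebraMap k' R))) 𝕋 ⟶
      pullback g 𝕋, a ≫ pullback.fst g 𝕋 = pullback.fst _ _ ≫ fs ∧
      a ≫ pullback.snd g 𝕋 = pullback.snd _ _ ∧ IsOpenImmersion a ∧
      (∀ x, pullback.fst g 𝕋 x ∈ Set.range fs → x ∈ Set.range a) := by
    refine ⟨pullback.map _ 𝕋 g 𝕋 fs (𝟙 _) (𝟙 _) (by rw [Category.comp_id, hfs])
      (by rw [Category.comp_id, Category.id_comp]), ?_, ?_, inferInstance, ?_⟩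
    · exact pullback.lift_fst _ _ _
    · exact (pullback.lift_snd _ _ _).trans (Category.comp_id _)
    · intro x hx
      rw [Scheme.Pullback.range_map]
      exact ⟨hx, ⟨pullback.snd g 𝕋 x, by simp⟩⟩
  -- the chart of `Z''`
  obtain ⟨b, hb1, hb2, hbO, hbR⟩ : ∃ b : pullback (Spec.map (CommRingCat.ofHom (algebraMap k' (R ⧸ I)))) 𝕋 ⟶
      pullback (ι ≫ g) 𝕋, b ≫ pullback.fst (ι ≫ g) 𝕋 = pullback.fst _ _ ≫ c ∧
      b ≫ pullback.snd (ι ≫ g) 𝕋 = pullback.snd _ _ ∧ IsOpenImmersion b ∧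
      (∀ z, pullback.fst (ι ≫ g) 𝕋 z ∈ Set.range c → z ∈ Set.range b) := by
    refine ⟨pullback.map _ 𝕋 (ι ≫ g) 𝕋 c (𝟙 _) (𝟙 _) (by rw [Category.comp_id, hcg])
      (by rw [Category.comp_id, Category.id_comp]), ?_, ?_, inferInstance, ?_⟩
    · exact pullback.lift_fst _ _ _
    · exact (pullback.lift_snd _ _ _).trans (Category.comp_id _)
    · intro z hz
      rw [Scheme.Pullback.range_map]
      exact ⟨hz, ⟨pullback.snd (ι ≫ g) 𝕋 z, by simp⟩⟩
  -- the closed immersion between the charts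
  obtain ⟨j₁, hj₁1, hj₁2⟩ : ∃ j₁ : pullback (Spec.map (CommRingCat.ofHom (algebraMap k' (R ⧸ I)))) 𝕋 ⟶
      pullback (Spec.map (CommRingCat.ofHom (algebraMap k' R))) 𝕋,
      j₁ ≫ pullback.fst _ _ =
        pullback.fst _ _ ≫ Spec.map (CommRingCat.ofHom (Ideal.Quotient.mk I)) ∧
      j₁ ≫ pullback.snd _ _ = pullback.snd _ _ := by
    refine ⟨pullback.map _ 𝕋 _ 𝕋 (Spec.map (CommRingCat.ofHom (Ideal.Quotient.mk I))) (𝟙 _) (𝟙 _)
      ?_ ?_, ?_, ?_⟩
    · rw [Category.comp_id, ← Spec.map_comp]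
      rfl
    · rw [Category.comp_id, Category.id_comp]
    · exact pullback.lift_fst _ _ _
    · exact (pullback.lift_snd _ _ _).trans (Category.comp_id _)
  have hab : b ≫ j = j₁ ≫ a := by
    apply pullback.hom_ext
    · simp only [Category.assoc]
      rw [hj1, reassoc_of% hb1, hc, ha1, reassoc_of% hj₁1]
    · simp only [Category.assoc]
      rw [hj2, hb2, ha2, hj₁2]
  obtain ⟨x₁, hx₁⟩ := haR x'' hxU
  obtain ⟨z₁, hz₁⟩ := hbR z'' hzU
  haveI := haO
  haveI := hbO
  have hinj : Function.Injective a := a.isOpenEmbedding.injective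
  have hjz : j₁ z₁ = x₁ := by
    apply hinj
    rw [← Scheme.Hom.comp_apply, ← hab, Scheme.Hom.comp_apply, hz₁, hz'', hx₁]
  have hmax₁ : ∀ z, z ⤳ x₁ → z = x₁ := by
    intro z hz
    apply hinj
    have h := hz.map a.continuous
    rw [hx₁] at h ⊢
    exact hx'' _ h
  have key := spec_level (k' := k') (k'' := k'') I hI x₁ z₁ j₁ hj₁1 hj₁2 hmax₁ hjz
  have t1 := length_stalk_of_isOpenImmersion a x₁ x'' hx₁
  have t2 := length_stalk_of_isOpenImmersion b z₁ z'' hz₁
  have hfsx : fs (pullback.fst (Spec.map (CommRingCat.ofHom (algebraMap k' R))) 𝕋 x₁) =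
      pullback.fst g 𝕋 x'' := by
    rw [← Scheme.Hom.comp_apply, ← ha1, Scheme.Hom.comp_apply, hx₁]
  have t3 := length_stalk_of_isOpenImmersion fs _ _ hfsx
  rw [t1, t2, t3]
  exact key

/-- the general statement -/
theorem main (Y : Scheme.{u}) (g : Y ⟶ Spec (CommRingCat.of k'))
    (x'' : ↥(pullback g 𝕋)) (hx'' : ∀ z, z ⤳ x'' → z = x'')
    (z'' : ↥(pullback (Y.nilradical.subschemeι ≫ g) 𝕋))
    (j : pullback (Y.nilradical.subschemeι ≫ g) 𝕋 ⟶ pullback g 𝕋)
    (hj1 : j ≫ pullback.fst g 𝕋 =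
      pullback.fst (Y.nilradical.subschemeι ≫ g) 𝕋 ≫ Y.nilradical.subschemeι)
    (hj2 : j ≫ pullback.snd g 𝕋 = pullback.snd (Y.nilradical.subschemeι ≫ g) 𝕋)
    (hz'' : j z'' = x'') :
    Module.length ((pullback g 𝕋).presheaf.stalk x'') ((pullback g 𝕋).presheaf.stalk x'') =
      Module.length (Y.presheaf.stalk (pullback.fst g 𝕋 x''))
          (Y.presheaf.stalk (pullback.fst g 𝕋 x'')) *
        Module.length ((pullback (Y.nilradical.subschemeι ≫ g) 𝕋).presheaf.stalk z'')
          ((pullback (Y.nilradical.subschemeι ≫ g) 𝕋).presheaf.stalk z'') := by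
  obtain ⟨U, hU, hxU, -⟩ := exists_isAffineOpen_mem_and_subset
    (x := pullback.fst g 𝕋 x'') (U := ⊤) trivial
  let ψ : CommRingCat.of k' ⟶ Γ(Y, U) := Spec.preimage (hU.fromSpec ≫ g)
  have hψ : Spec.map ψ = hU.fromSpec ≫ g := Spec.map_preimage _
  letI : Algebra k' Γ(Y, U) := ψ.hom.toAlgebra
  have hfs : hU.fromSpec ≫ g = Spec.map (CommRingCat.ofHom (algebraMap k' Γ(Y, U))) := hψ.symm
  have hI : Y.nilradical.ideal ⟨U, hU⟩ = nilradical Γ(Y, U) := by
    show (Scheme.IdealSheafData.radical ⊥).ideal ⟨U, hU⟩ = _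
    rw [Scheme.IdealSheafData.radical_ideal]
    rfl
  have hc : Y.nilradical.subschemeCover.f ⟨U, hU⟩ ≫ Y.nilradical.subschemeι =
      Spec.map (CommRingCat.ofHom (Ideal.Quotient.mk (Y.nilradical.ideal ⟨U, hU⟩))) ≫
        hU.fromSpec := by
    rw [Scheme.IdealSheafData.subschemeCover_map_subschemeι,
      Scheme.IdealSheafData.glueDataObjι_ι]
  have hrange : Set.range (Y.nilradical.subschemeCover.f ⟨U, hU⟩) =
      Y.nilradical.subschemeι ⁻¹' (U : Set Y) := by
    have h := Scheme.IdealSheafData.opensRange_subschemeCover_map Y.nilradical ⟨U, hU⟩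
    rw [← Scheme.Hom.coe_opensRange, h]
    rfl
  refine chart_level g Y.nilradical.subschemeι Γ(Y, U) (Y.nilradical.ideal ⟨U, hU⟩) hI
    hU.fromSpec inferInstance (Y.nilradical.subschemeCover.f ⟨U, hU⟩)
    (inferInstance : IsOpenImmersion (Y.nilradical.subschemeCover.f ⟨U, hU⟩))
    hfs hc j hj1 hj2 x'' hx'' z'' hz'' ?_ ?_
  · rw [hU.range_fromSpec]
    exact hxU
  · refine (Set.ext_iff.mp hrange _).mpr ?_
    show Y.nilradical.subschemeι (pullback.fst (Y.nilradical.subschemeι ≫ g) 𝕋 z'') ∈ U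
    rw [← Scheme.Hom.comp_apply, ← hj1, Scheme.Hom.comp_apply, hz'']
    exact hxU

/-- the geometrically reduced case -/
theorem main_red (Y : Scheme.{u}) (g : Y ⟶ Spec (CommRingCat.of k')) [GeometricallyReduced 𝕋]
    (x'' : ↥(pullback g 𝕋)) (hx'' : ∀ z, z ⤳ x'' → z = x'') :
    Module.length ((pullback g 𝕋).presheaf.stalk x'') ((pullback g 𝕋).presheaf.stalk x'') =
      Module.length (Y.presheaf.stalk (pullback.fst g 𝕋 x''))
        (Y.presheaf.stalk (pullback.fst g 𝕋 x'')) := by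
  obtain ⟨j, hjdef⟩ : ∃ j : pullback (Y.nilradical.subschemeι ≫ g) 𝕋 ⟶ pullback g 𝕋,
      j = pullback.map (Y.nilradical.subschemeι ≫ g) 𝕋 g 𝕋 Y.nilradical.subschemeι (𝟙 _) (𝟙 _)
        (Category.comp_id _) ((Category.comp_id _).trans (Category.id_comp _).symm) := ⟨_, rfl⟩
  have hj1 : j ≫ pullback.fst g 𝕋 =
      pullback.fst (Y.nilradical.subschemeι ≫ g) 𝕋 ≫ Y.nilradical.subschemeι := by
    rw [hjdef]; exact pullback.lift_fst _ _ _
  have hj2 : j ≫ pullback.snd g 𝕋 = pullback.snd (Y.nilradical.subschemeι ≫ g) 𝕋 := by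
    rw [hjdef]; exact (pullback.lift_snd _ _ _).trans (Category.comp_id _)
  have hsurj : x'' ∈ Set.range j := by
    rw [hjdef, Scheme.Pullback.range_map]
    refine ⟨?_, ⟨pullback.snd g 𝕋 x'', by simp⟩⟩
    show pullback.fst g 𝕋 x'' ∈ Set.range Y.nilradical.subschemeι
    rw [Scheme.IdealSheafData.range_subschemeι, Scheme.support_nilradical]
    trivial
  obtain ⟨z'', hz''⟩ := hsurj
  have hlen := main Y g x'' hx'' z'' j hj1 hj2 hz''
  -- `j` is a closed immersion
  have hsq : IsPullback j (pullback.fst (Y.nilradical.subschemeι ≫ g) 𝕋) (pullback.fst g 𝕋)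
      Y.nilradical.subschemeι := by
    refine IsPullback.of_right ?_ hj1 (IsPullback.of_hasPullback g 𝕋).flip
    rw [hj2]
    exact (IsPullback.of_hasPullback (Y.nilradical.subschemeι ≫ g) 𝕋).flip
  haveI : IsClosedImmersion j :=
    MorphismProperty.of_isPullback hsq.flip
      (inferInstance : IsClosedImmersion Y.nilradical.subschemeι)
  have hinj : Function.Injective j := j.isClosedEmbedding.injective
  have hzmax : ∀ z, z ⤳ z'' → z = z'' := by
    intro z hz
    apply hinj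
    have h := hz.map j.continuous
    rw [hz''] at h ⊢
    exact hx'' _ h
  haveI : IsReduced Y.nilradical.subscheme := isReduced_nilradical_subscheme Y
  haveI hred : IsReduced (pullback (Y.nilradical.subschemeι ≫ g) 𝕋) := by
    haveI : IsReduced (pullback 𝕋 (Y.nilradical.subschemeι ≫ g)) :=
      Groth.Agent.Helper3.isReduced_pullback_of_geometricallyReduced 𝕋
        (Y.nilradical.subschemeι ≫ g)
    exact isReduced_of_isOpenImmersion (pullbackSymmetry (Y.nilradical.subschemeι ≫ g) 𝕋).hom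
  rw [hlen, length_stalk_eq_one z'' hzmax, mul_one]

end Sch

end Groth.Agent.Helper7.FBLen
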